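import Cfsg.Agent.Lib.Mult.Glue
import Cfsg.Agent.Lib.Grp.Co3.Main

set_option autoImplicit false
set_option maxRecDepth 100000
set_option Elab.async false

namespace Cfsg.Agent.Mult.Co3

open Cfsg.Agent.CG Cfsg.Agent.CG.Co3

noncomputable def p5T : ℕ := 0xc0200c0200c020000000000ff80a008020000000000000000040200000000000000000000
noncomputable def p5q1 : ℕ := 0x300020001
noncomputable def p5q2 : ℕ := 0x30ff9ea55
noncomputable def p5NF : ℕ := 0x100000000000000100000000000000000000000000000000000000010000000000000010000000000000000000000000000000000000000000000000000400000000000000000000000000000000000000000000000000000000000000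
noncomputable def p5gv : ℕ := 0xc0000c00000000000100c0300000000000040000000
noncomputable def p5av : ℕ := 0x40000000000000000000000000000000000000000
noncomputable def p5mu : ℕ := 0x19004000000640000000000000100000000000000000
noncomputable def p5om : ℕ := 0x0
noncomputable def p5tm : ℕ := 0x9990549932999199999
noncomputable def p5par : ℕ := 0xe6a925
noncomputable def p5z : Desc := ⟨0,0,0,0,[],[]⟩
noncomputable def p5ds : Tr Desc := (.node (.node (.node (.node (.node (.leaf p5z) (.leaf p5z)) (.leaf p5z)) (.node (.leaf p5z) (.leaf p5z))) (.node (.node (.node (.leaf p5z) (.leaf p5z)) (.leaf ⟨0,2,0,0,[],[]⟩)) (.node (.leaf p5z) (.leaf ⟨0,4,0,0,[],[]⟩)))) (.node (.node (.node (.node (.leaf p5z) (.leaf p5z)) (.leaf ⟨0,1,0,0,[],[]⟩)) (.node (.leaf ⟨0,0,0,0,[],[]⟩) (.leaf ⟨0,3,0,0,[],[]⟩))) (.node (.node (.leaf p5z) (.leaf p5z)) (.node (.leaf p5z) (.leaf ⟨1,0x2,1,1,[],[]⟩)))))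
noncomputable def p5rd : Tr Desc := (.node (.node (.leaf ⟨2,0,0,0,[2,1],[1,2]⟩) (.leaf ⟨2,0,0,0,[1,1,1,1,1],[]⟩)) (.node (.leaf ⟨2,0,0,0,[2,0],[0,2]⟩) (.leaf ⟨2,0,0,0,[0,0,0,0,0],[]⟩)))
noncomputable def D5 : Dat where
  p := 5
  q := 5
  n1 := 4
  b := 2
  fl := 8
  ew := 20
  T := p5T
  w := 14
  fuel := 201
  nf := 1
  cm := 3
  q1 := fun x => look 0xffff p5q1 (Nat.mul 16 x)
  q2 := fun x => look 0xffff p5q2 (Nat.mul 16 x)
  NV := 19
  d := 5
  w2 := 10
  NF := fun x => look 0x3ffffffffffff p5NF (Nat.mul 50 x)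
  tm := fun x => look 0xf p5tm (Nat.mul 4 x)
  TM := 9
  par := fun x => look 0x1f p5par (Nat.mul 5 x)
  ds := fun x => p5ds.get x
  r := 4
  s0 := 0
  gv := fun x => look 0x3ffffffffffff p5gv (Nat.mul 50 x)
  rd := fun x => p5rd.get x
  av := fun x => look 0x3ffffffffffff p5av (Nat.mul 50 x)
  mw := 3
  mu := fun x => look 0xfff p5mu (Nat.mul 12 x)
  ms := []
  om := fun x => look 0xfff p5om (Nat.mul 12 x)
noncomputable def p5w1 : List (List ℕ) := [[73,4,27,19,28,32,34,45,41],
  [43,0,37,71,18,37,27,34,32,37,42,36,51,45],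
  [20,0,18,18,72,26,76,32,34,40,36,51,45],
  [19,0,29,19,75,24,36,30,43,38,45,41,45]]
noncomputable def p5w2 : List (List ℕ) := [[1],
  [2],
  [3]]
noncomputable def p5L0c : ℕ := 0x3303e4c90000a5c12ca689c0ad457cc184e0768b289d8b1c8b860c9e4cd84ecbdcae0a44678
noncomputable def p5L0p : ℕ := 0x1301201101000f00e00d00c00b00a009008007006005004003002001000003002001000000
noncomputable def p5L0l : ℕ := 0x2002002002002002002002002002002002002002002002002002002002003003003003000
noncomputable def p5L0q : ℕ := 0x900501200000000000000000000000000000000001400e00f00000000000000000000000000000000000000000000000000000000000000000100000000000000000000600000000000000700001300000000000000a00c00000200000000000000000000001700001800401001600000300000b00800000001100000d000015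
noncomputable def p5L1c : ℕ := 0xa5c000c903e4330
noncomputable def p5L1p : ℕ := 0x3002001000000
noncomputable def p5L1l : ℕ := 0x1001001001000
noncomputable def p5L1q : ℕ := 0x4000000002001000003
noncomputable def p5L : List Lvl := [mkLvl 1656 [3,2] 25 12 p5L0c p5L0p p5L0l 89 p5L0q,
  mkLvl 816 [1] 5 12 p5L1c p5L1p p5L1l 7 p5L1q]

theorem p5c0 : okcb 276 12 (bases p5L) = true := by decide +kernel
theorem p5c1 : D5.chkNum 0 3 495766656000 p5w2 p5L = true := by decide +kernel
theorem p5c2 : headAll (appW (appW app p5w1) p5w2) p5L [] = true := by decide +kernel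
theorem p5c3 : allL (fun l => l.chk (appW (appW app p5w1) p5w2) 1 (l.N - 1)) p5L = true := by decide +kernel
theorem p5c4 : D5.chkPc (appW app p5w1) bs 0 16 = true := by decide +kernel
theorem p5c5 : D5.chkFus (appW app p5w1) bs 0 3 = true := by decide +kernel
theorem p5c6 : D5.chkHead = true := by decide +kernel
theorem p5c7 : D5.chkVars 0 19 = true := by decide +kernel
theorem p5c8 : D5.chkRhos 0 4 = true := by decide +kernel
theorem p5c9 : D5.chkEnts 0 16 = true := by decide +kernel

theorem pb5 : PB PG 5 [] :=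
  Dat.pbA (D := D5) base card (by norm_num : Nat.Prime 5) (okc_of_okcb p5c0) p5c1 p5c2 p5c3
    p5c4
    p5c5
    p5c6 p5c7
    p5c8
    p5c9

end Cfsg.Agent.Mult.Co3
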